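import Mathlib
import Cfsg.Agent.H740.Fixed
import Cfsg.Agent.OddOrderLocal.QuadOdd
import Cfsg.Agent.H847.Bs.Defs2
import Cfsg.Agent.H847.IF.Abs

/-!
# S5719 (involution fixity): (LR) and (PHI) for `SL(V)`, `q` odd (helper353)

* `fund z` : `z` is an involution whose `(-1)`-space has dimension 2.
* `pair` : (LR) two transvections `1 + φ ⊗ v₀`, `1 + ψ ⊗ v₁` of a subgroup `Y` of `SL(V)` without fundamental
  involutions satisfy `φ v₁ = 0` or `ψ v₀ = 0`.
* `exists_center` : if `V ≠ 0` some vector `e` is not the centre of a transvection of `Y`.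
* `phi_sl` : (PHI), relative form: `X ≤ SL(V) × Γ` without fundamental involutions `(z, 1)` and without elements
  `(1, z)`, `z ∈ Z`, has index at least `q ^ (d (d - 1) / 2) * c`, `d = dim V`.
`hFT` is the odd order theorem (`fun D _ _ h => Cfsg.Agent.S0205.result h`).
-/

set_option autoImplicit false
set_option linter.unusedSectionVars false

namespace Cfsg.Agent.H353.Phi

open Module
open Cfsg.Agent.H847.Bs (slV)

universe u v w

section Basic

variable {F : Type*} [Field F] {V : Type*} [AddCommGroup V] [Module F V]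

/-- the `(-1)`-space -/
def negS (g : V ≃ₗ[F] V) : Submodule F V where
  carrier := {v | g v = -v}
  add_mem' := by
    intro a b ha hb
    show g (a + b) = -(a + b)
    rw [map_add, show g a = -a from ha, show g b = -b from hb, neg_add]
  zero_mem' := by show g 0 = -0; rw [map_zero, neg_zero]
  smul_mem' := by
    intro c a ha
    show g (c • a) = -(c • a)
    rw [map_smul, show g a = -a from ha, smul_neg]

theorem mem_negS {g : V ≃ₗ[F] V} {v : V} : v ∈ negS g ↔ g v = -v := Iff.rfl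

/-- fundamental involutions of `SL(V)` -/
def fund (z : V ≃ₗ[F] V) : Prop :=
  z * z = 1 ∧ finrank F (LinearMap.range ((z : V →ₗ[F] V) - 1)) = 2

theorem mem_slV {g : V ≃ₗ[F] V} : g ∈ slV F V ↔ LinearMap.det (g : V →ₗ[F] V) = 1 := Iff.rfl

theorem fund_iff (h2 : (2 : F) ≠ 0) {z : V ≃ₗ[F] V} : fund z ↔ z * z = 1 ∧ finrank F (negS z) = 2 := by
  have key : z * z = 1 → LinearMap.range ((z : V →ₗ[F] V) - 1) = negS z := by
    intro hz
    have hzz : ∀ v, z (z v) = v := fun v => by rw [← LinearEquiv.mul_apply, hz]; rfl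
    ext v
    constructor
    · rintro ⟨x, rfl⟩
      show z (z x - x) = -(z x - x)
      rw [map_sub, hzz, neg_sub]
    · intro hv
      refine ⟨-((2 : F)⁻¹ • v), ?_⟩
      show z (-((2 : F)⁻¹ • v)) - -((2 : F)⁻¹ • v) = v
      rw [map_neg, map_smul, show z v = -v from hv, smul_neg, neg_neg, sub_neg_eq_add, ← two_smul F, smul_smul,
        mul_inv_cancel₀ h2, one_smul]
  constructor
  · rintro ⟨h1, h3⟩
    exact ⟨h1, by rw [← key h1]; exact h3⟩
  · rintro ⟨h1, h3⟩
    exact ⟨h1, by rw [key h1]; exact h3⟩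

/-- trivial on `W` -/
def fixG (W : Submodule F V) : Subgroup (V ≃ₗ[F] V) where
  carrier := {g | ∀ w ∈ W, g w = w}
  mul_mem' := by
    intro a b ha hb w hw
    rw [LinearEquiv.mul_apply, hb w hw, ha w hw]
  one_mem' := fun w _ => rfl
  inv_mem' := by
    intro a ha w hw
    have h1 : a⁻¹ (a w) = w := by rw [← LinearEquiv.mul_apply, inv_mul_cancel]; rfl
    rwa [ha w hw] at h1

theorem mem_fixG {W : Submodule F V} {g : V ≃ₗ[F] V} : g ∈ fixG W ↔ ∀ w ∈ W, g w = w := Iff.rfl

/-- trivial on `V/W` -/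
def cofixG (W : Submodule F V) : Subgroup (V ≃ₗ[F] V) where
  carrier := {g | ∀ v, g v - v ∈ W}
  mul_mem' := by
    intro a b ha hb v
    have h1 : (a * b) v - v = (a (b v) - b v) + (b v - v) := by rw [LinearEquiv.mul_apply]; abel
    rw [h1]
    exact W.add_mem (ha _) (hb _)
  one_mem' := by
    intro v
    rw [LinearEquiv.coe_one, id, sub_self]
    exact W.zero_mem
  inv_mem' := by
    intro a ha v
    have h1 := ha (a⁻¹ v)
    have h2 : a (a⁻¹ v) = v := by rw [← LinearEquiv.mul_apply, mul_inv_cancel]; rfl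
    rw [h2] at h1
    rw [← neg_sub]
    exact W.neg_mem h1

theorem mem_cofixG {W : Submodule F V} {g : V ≃ₗ[F] V} : g ∈ cofixG W ↔ ∀ v, g v - v ∈ W := Iff.rfl

theorem map_cofix {W : Submodule F V} {g : V ≃ₗ[F] V} (hg : g ∈ cofixG W) :
    W.map (g : V →ₗ[F] V) = W := by
  ext x
  constructor
  · rintro ⟨w, hw, rfl⟩
    have h1 := W.add_mem (hg w) hw
    rwa [sub_add_cancel] at h1
  · intro hx
    have h1 := (cofixG W).inv_mem hg x
    have h2 := W.add_mem h1 hx
    rw [sub_add_cancel] at h2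
    refine ⟨g⁻¹ x, h2, ?_⟩
    rw [LinearEquiv.coe_coe, ← LinearEquiv.mul_apply, mul_inv_cancel]
    rfl

/-- the action on `W` -/
def resH (W : Submodule F V) : cofixG W →* (W ≃ₗ[F] W) where
  toFun g := g.1.ofSubmodules W W (map_cofix g.2)
  map_one' := by ext x; rfl
  map_mul' a b := by ext x; rfl

theorem resH_coe (W : Submodule F V) (g : cofixG W) (w : W) : (resH W g w : V) = g.1 w := rfl

section Fin

variable [FiniteDimensional F V]

theorem det_cofix (W : Submodule F V) (g : cofixG W) :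
    LinearMap.det (g.1 : V →ₗ[F] V) = LinearMap.det (resH W g : W →ₗ[F] W) := by
  have he : W ≤ W.comap (g.1 : V →ₗ[F] V) := fun w hw => by
    rw [Submodule.mem_comap, LinearEquiv.coe_coe]
    have h1 := W.add_mem (g.2 w) hw
    rwa [sub_add_cancel] at h1
  rw [LinearMap.det_eq_det_mul_det W (g.1 : V →ₗ[F] V) he]
  have h1 : (g.1 : V →ₗ[F] V).restrict he = (resH W g : W →ₗ[F] W) := by
    ext w
    rfl
  have h2 : W.mapQ W (g.1 : V →ₗ[F] V) he = LinearMap.id := by
    ext v
    rw [LinearMap.comp_apply, LinearMap.comp_apply, Submodule.mkQ_apply, Submodule.mapQ_apply, LinearMap.id_apply]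
    exact (Submodule.Quotient.eq W).2 (g.2 v)
  rw [h1, h2, LinearMap.det_id, mul_one]

theorem det_invol {g : V ≃ₗ[F] V} (hg : g * g = 1) :
    LinearMap.det (g : V →ₗ[F] V) = (-1) ^ finrank F (negS g) := by
  have hgg : ∀ v, g (g v) = v := fun v => by rw [← LinearEquiv.mul_apply, hg]; rfl
  have hco : g ∈ cofixG (negS g) := by
    intro v
    show g (g v - v) = -(g v - v)
    rw [map_sub, hgg, neg_sub]
  rw [det_cofix (negS g) ⟨g, hco⟩]
  have h1 : (resH (negS g) ⟨g, hco⟩ : negS g →ₗ[F] negS g) = (-1 : F) • LinearMap.id := by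
    ext w
    rw [LinearEquiv.coe_coe, resH_coe, LinearMap.smul_apply, LinearMap.id_apply, neg_smul, one_smul]
    exact w.2
  rw [h1, LinearMap.det_smul, LinearMap.det_id, mul_one]

end Fin

/-! ### Unipotent elements -/

/-- trivial on `W` and on `V/W` -/
def unipG (W : Submodule F V) : Subgroup (V ≃ₗ[F] V) := fixG W ⊓ cofixG W

theorem unip_pow {W : Submodule F V} {u : V ≃ₗ[F] V} (hu : u ∈ unipG W) (n : ℕ) (v : V) :
    (u ^ n) v = v + n • (u v - v) := by
  induction n with
  | zero => rw [pow_zero, zero_smul, add_zero]; rfl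
  | succ n ih =>
    rw [pow_succ', LinearEquiv.mul_apply, ih, map_add, map_nsmul, hu.1 _ (hu.2 v), succ_nsmul]
    abel

theorem unip_eq_one (h2 : (2 : F) ≠ 0) {W : Submodule F V} {u : V ≃ₗ[F] V} (hu : u ∈ unipG W) {a : ℕ}
    (ha : u ^ (2 ^ a) = 1) : u = 1 := by
  ext v
  have h1 := unip_pow hu (2 ^ a) v
  rw [ha] at h1
  have h3 : (2 ^ a : ℕ) • (u v - v) = 0 := by
    have : v = v + (2 ^ a : ℕ) • (u v - v) := h1
    exact left_eq_add.1 this
  rw [← Nat.cast_smul_eq_nsmul F, smul_eq_zero] at h3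
  rcases h3 with h3 | h3
  · exfalso
    rw [Nat.cast_pow, Nat.cast_ofNat] at h3
    exact pow_ne_zero _ h2 h3
  · exact sub_eq_zero.1 h3

theorem eq_zero_of_neg (h2 : (2 : F) ≠ 0) {v : V} (h : v = -v) : v = 0 := by
  have h1 : (2 : F) • v = 0 := by
    rw [two_smul]
    nth_rewrite 2 [h]
    exact add_neg_cancel v
  exact (smul_eq_zero.1 h1).resolve_left h2

/-- `1 + φ ⊗ e` -/
theorem tv_mem (e : V) (φ : V →ₗ[F] F) (h : φ e = 0) :
    ∃ t ∈ unipG (F ∙ e), ∀ v, (t : V ≃ₗ[F] V) v = v + φ v • e := by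
  let t : V ≃ₗ[F] V := LinearEquiv.ofLinearMap (LinearMap.id + φ.smulRight e) (LinearMap.id - φ.smulRight e)
    (by ext v; simp [h]) (by ext v; simp [h])
  have ht : ∀ v, t v = v + φ v • e := fun v => rfl
  refine ⟨t, ⟨?_, ?_⟩, ht⟩
  · intro w hw
    obtain ⟨a, rfl⟩ := Submodule.mem_span_singleton.1 hw
    rw [ht, map_smul, h, smul_zero, zero_smul, add_zero]
  · intro v
    rw [ht, add_sub_cancel_left]
    exact Submodule.mem_span_singleton.2 ⟨_, rfl⟩

/-- the functional of an element of `unipG (F ∙ e)` -/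
theorem exists_functional {e : V} (he : e ≠ 0) {t : V ≃ₗ[F] V} (hu : t ∈ unipG (F ∙ e)) :
    ∃ φ : V →ₗ[F] F, φ e = 0 ∧ ∀ v, t v = v + φ v • e := by
  let ν : V →ₗ[F] V := (t : V →ₗ[F] V) - LinearMap.id
  let φ : V →ₗ[F] F := (LinearEquiv.toSpanNonzeroSingleton F V e he).symm.toLinearMap ∘ₗ
    ν.codRestrict (F ∙ e) hu.2
  have hφ : ∀ v, t v = v + φ v • e := by
    intro v
    have h1 : (LinearEquiv.toSpanNonzeroSingleton F V e he) (φ v) = ν.codRestrict (F ∙ e) hu.2 v := by
      show (LinearEquiv.toSpanNonzeroSingleton F V e he)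
        ((LinearEquiv.toSpanNonzeroSingleton F V e he).symm _) = _
      rw [LinearEquiv.apply_symm_apply]
    have h3 : φ v • e = t v - v := congrArg Subtype.val h1
    rw [h3]
    abel
  refine ⟨φ, ?_, hφ⟩
  have h1 := hφ e
  rw [hu.1 e (Submodule.mem_span_singleton_self e)] at h1
  exact (smul_eq_zero.1 (left_eq_add.1 h1)).resolve_right he

end Basic

theorem finite_equiv (F : Type*) [Field F] (V : Type*) [AddCommGroup V] [Module F V] [Finite V] :
    Finite (V ≃ₗ[F] V) := Finite.of_injective (fun e : V ≃ₗ[F] V => (e : V → V))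
    (fun _ _ h => LinearEquiv.ext fun v => congrFun h v)

/-! ### (LR) -/

section LR

variable {F : Type u} [Field F] {V : Type v} [AddCommGroup V] [Module F V] [Finite F] [Finite V]

/-- **(LR)** -/
theorem pair (h2 : (2 : F) ≠ 0)
    (hFT : ∀ (D : Type v) [Group D] [Finite D], Odd (Nat.card D) → Group.IsSolvable D)
    {Y : Subgroup (V ≃ₗ[F] V)} (hdet : Y ≤ slV F V) (hno : ∀ z ∈ Y, ¬ fund z)
    {t t' : V ≃ₗ[F] V} (ht : t ∈ Y) (ht'Y : t' ∈ Y) {φ ψ : V →ₗ[F] F} {v₀ v₁ : V}
    (hφ : ∀ v, t v = v + φ v • v₀) (hφ' : ∀ v, t' v = v + ψ v • v₁) (hφ0 : φ v₀ = 0) (hψ1 : ψ v₁ = 0) :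
    φ v₁ = 0 ∨ ψ v₀ = 0 := by
  have := finite_equiv F V
  by_contra hcon
  push Not at hcon
  obtain ⟨ha, hb⟩ := hcon
  have hv₀ : v₀ ≠ 0 := by
    rintro rfl
    exact hb (map_zero _)
  let U : Submodule F V := Submodule.span F {v₀, v₁}
  have hU0 : v₀ ∈ U := Submodule.subset_span (by simp)
  have hU1 : v₁ ∈ U := Submodule.subset_span (by simp)
  have hUdim : finrank F U ≤ 2 := by
    classical
    have h1 := finrank_span_finset_le_card (R := F) (({v₀, v₁} : Finset V))
    have h3 : Submodule.span F ((({v₀, v₁} : Finset V) : Set V)) = U := by simp [U]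
    have h4 : ({v₀, v₁} : Finset V).card ≤ 2 := Finset.card_le_two
    rw [Set.finrank, h3] at h1
    exact h1.trans h4
  let D : Subgroup (V ≃ₗ[F] V) := Subgroup.closure {t, t'}
  have hDY : D ≤ Y := by
    rw [Subgroup.closure_le]
    rintro x (rfl | rfl)
    · exact ht
    · exact ht'Y
  have hDU : D ≤ cofixG U := by
    rw [Subgroup.closure_le]
    rintro x (rfl | rfl)
    · intro v
      rw [hφ, add_sub_cancel_left]
      exact U.smul_mem _ hU0
    · intro v
      rw [hφ', add_sub_cancel_left]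
      exact U.smul_mem _ hU1
  have hodd : Odd (Nat.card D) := by
    by_contra hev
    rw [Nat.not_odd_iff_even, even_iff_two_dvd] at hev
    obtain ⟨⟨g, hgD⟩, hg⟩ := exists_prime_orderOf_dvd_card' 2 hev
    rw [← Subgroup.orderOf_coe] at hg
    have hsq : g * g = 1 := by
      have := pow_orderOf_eq_one g
      rwa [show orderOf g = 2 from hg, pow_two] at this
    have hg1 : g ≠ 1 := by
      rintro rfl
      rw [show orderOf (1 : V ≃ₗ[F] V) = 1 from orderOf_one] at hg
      omega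
    have hgg : ∀ v, g (g v) = v := fun v => by rw [← LinearEquiv.mul_apply, hsq]; rfl
    have hle : negS g ≤ U := by
      intro v hv
      have h3 := hDU hgD v
      rw [show g v = -v from hv] at h3
      have h4 : (-(2 : F)⁻¹) • (-v - v) = v := by
        rw [show -v - v = (-(2 : F)) • v by rw [neg_smul, two_smul]; abel, smul_smul, neg_mul_neg,
          inv_mul_cancel₀ h2, one_smul]
      rw [← h4]
      exact U.smul_mem _ h3
    have h3 : finrank F (negS g) ≤ 2 := (Submodule.finrank_mono hle).trans hUdim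
    have h4 : finrank F (negS g) ≠ 2 := fun h => hno g (hDY hgD) ((fund_iff h2).2 ⟨hsq, h⟩)
    have h5 := det_invol hsq
    rw [mem_slV.1 (hdet (hDY hgD))] at h5
    have h6 : finrank F (negS g) ≠ 1 := by
      intro h6
      rw [h6, pow_one] at h5
      apply h2
      rw [← one_add_one_eq_two]
      nth_rewrite 1 [h5]
      exact neg_add_cancel 1
    have h7 : finrank F (negS g) = 0 := by omega
    have h8 : negS g = ⊥ := Submodule.finrank_eq_zero.1 h7
    apply hg1
    ext v
    have h9 : g v - v ∈ negS g := by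
      rw [mem_negS, map_sub, hgg, neg_sub]
    rw [h8, Submodule.mem_bot, sub_eq_zero] at h9
    exact h9
  have hsol : Group.IsSolvable D := hFT D hodd
  let ρ : D →* Module.End F U := LinearEquiv.automorphismGroup.toLinearMapMonoidHom.comp
    ((resH U).comp (Subgroup.inclusion hDU))
  have hρ : ∀ (g : D) (w : U), (ρ g w : V) = g.1 w := fun g w => rfl
  have hUnt : Nontrivial U := ⟨⟨⟨v₀, hU0⟩, 0, fun h => hv₀ (congrArg Subtype.val h)⟩⟩
  have htD : t ∈ D := Subgroup.subset_closure (by simp)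
  have ht'D : t' ∈ D := Subgroup.subset_closure (by simp)
  obtain ⟨w, hw0, hw1, hw2⟩ := OddOrderLocal.QuadOdd.exists_fixed_vector (F := F) (V := U) hodd ρ
    (x := ⟨t, htD⟩) (y := ⟨t', ht'D⟩)
    (by
      rw [eq_top_iff]
      have h1 : (Subgroup.closure ({⟨t, htD⟩, ⟨t', ht'D⟩} : Set D)).map D.subtype = D := by
        rw [MonoidHom.map_closure, Set.image_pair]
        rfl
      rintro ⟨x, hx⟩ -
      have h3 : x ∈ (Subgroup.closure ({⟨t, htD⟩, ⟨t', ht'D⟩} : Set D)).map D.subtype := by rw [h1]; exact hx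
      obtain ⟨z, hz, hz'⟩ := h3
      have h4 : z = ⟨x, hx⟩ := Subtype.ext hz'
      rw [← h4]
      exact hz)
    (by
      ext w
      rw [pow_two, Module.End.mul_apply, LinearMap.sub_apply, LinearMap.sub_apply, Module.End.one_apply,
        LinearMap.zero_apply]
      have h1 : (ρ ⟨t, htD⟩ w - w : U) = ⟨φ w • v₀, U.smul_mem _ hU0⟩ := by
        apply Subtype.ext
        rw [Submodule.coe_sub, hρ, hφ, add_sub_cancel_left]
      rw [Module.End.one_apply, h1, Submodule.coe_sub, hρ, hφ]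
      simp [hφ0])
    (by
      ext w
      rw [pow_two, Module.End.mul_apply, LinearMap.sub_apply, LinearMap.sub_apply, Module.End.one_apply,
        LinearMap.zero_apply]
      have h1 : (ρ ⟨t', ht'D⟩ w - w : U) = ⟨ψ w • v₁, U.smul_mem _ hU1⟩ := by
        apply Subtype.ext
        rw [Submodule.coe_sub, hρ, hφ', add_sub_cancel_left]
      rw [Module.End.one_apply, h1, Submodule.coe_sub, hρ, hφ']
      simp [hψ1])
  have hw1' : φ w = 0 := by
    have h1 := congrArg Subtype.val hw1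
    rw [hρ, hφ] at h1
    exact (smul_eq_zero.1 (add_eq_left.1 h1)).resolve_right hv₀
  have hv₁0 : v₁ ≠ 0 := by
    rintro rfl
    exact ha (map_zero _)
  have hw2' : ψ w = 0 := by
    have h1 := congrArg Subtype.val hw2
    rw [hρ, hφ'] at h1
    exact (smul_eq_zero.1 (add_eq_left.1 h1)).resolve_right hv₁0
  obtain ⟨α, β, hαβ⟩ := Submodule.mem_span_pair.1 w.2
  rw [← hαβ, map_add, map_smul, map_smul, hφ0, smul_zero, zero_add, smul_eq_mul, mul_eq_zero] at hw1'
  have hβ : β = 0 := hw1'.resolve_right ha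
  rw [← hαβ, map_add, map_smul, map_smul, hβ, zero_smul, add_zero, smul_eq_mul, mul_eq_zero] at hw2'
  have hα : α = 0 := hw2'.resolve_right hb
  apply hw0
  apply Subtype.ext
  rw [← hαβ, hα, hβ, zero_smul, zero_smul, add_zero]
  rfl

/-- the nilpotent parts of the transvections of `Y` -/
def IsT (Y : Subgroup (V ≃ₗ[F] V)) (ν : V →ₗ[F] V) : Prop :=
  ∃ (φ : V →ₗ[F] F) (e : V), φ e = 0 ∧ (∀ v, ν v = φ v • e) ∧ ∃ t ∈ Y, (t : V →ₗ[F] V) = 1 + ν

/-- **if `V ≠ 0` some nonzero vector is not the centre of a transvection of `Y`** -/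
theorem exists_center (h2 : (2 : F) ≠ 0)
    (hFT : ∀ (D : Type v) [Group D] [Finite D], Odd (Nat.card D) → Group.IsSolvable D)
    {Y : Subgroup (V ≃ₗ[F] V)} (hdet : Y ≤ slV F V) (hno : ∀ z ∈ Y, ¬ fund z) [Nontrivial V] :
    ∃ e : V, e ≠ 0 ∧ Y ⊓ unipG (F ∙ e) = ⊥ := by
  have := finite_equiv F V
  let E := LinearMap.GeneralLinearGroup.generalLinearEquiv F V
  let G : Subgroup (LinearMap.GeneralLinearGroup F V) := Y.map E.symm.toMonoidHom
  have hNN : ∀ ν, IsT Y ν → ν * ν = 0 := by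
    rintro ν ⟨φ, e, h0, h1, -⟩
    ext v
    rw [Module.End.mul_apply, h1, h1, map_smul, h0, smul_zero, zero_smul, LinearMap.zero_apply]
  have hNM : ∀ ν, IsT Y ν → ∀ μ, IsT Y μ → ν * μ * ν = 0 := by
    rintro ν ⟨φ, e, h0, h1, t, ht, ht'⟩ μ ⟨ψ, f, k0, k1, s, hs, hs'⟩
    have ht1 : ∀ v, t v = v + φ v • e := by
      intro v
      rw [← h1]
      exact congrArg (fun g : V →ₗ[F] V => g v) ht'
    have hs1 : ∀ v, s v = v + ψ v • f := by
      intro v
      rw [← k1]
      exact congrArg (fun g : V →ₗ[F] V => g v) hs'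
    ext v
    rw [Module.End.mul_apply, Module.End.mul_apply, h1 v, map_smul, map_smul, k1, map_smul, h1 f,
      LinearMap.zero_apply]
    rcases pair h2 hFT hdet hno ht hs ht1 hs1 h0 k0 with h | h
    · rw [h, zero_smul, smul_zero, smul_zero]
    · rw [h, zero_smul, smul_zero]
  let W : Set (Subgroup (LinearMap.GeneralLinearGroup F V)) :=
    {A | ∃ (ν : V →ₗ[F] V) (h : IsT Y ν), A = Subgroup.zpowers (H740.oneAdd ν (hNN ν h))}
  have hWG : ∀ A ∈ W, A ≤ G := by
    rintro _ ⟨ν, hν, rfl⟩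
    rw [Subgroup.zpowers_le]
    obtain ⟨φ, e, h0, h1, t, ht, ht'⟩ := id hν
    refine ⟨t, ht, ?_⟩
    apply Units.ext
    rw [H740.coe_oneAdd, ← ht']
    rfl
  have hconj : ∀ A ∈ W, ∀ g ∈ G, conjBy A g ∈ W := by
    rintro _ ⟨ν, hν, rfl⟩ _ ⟨g, hg, rfl⟩
    obtain ⟨φ, e, h0, h1, t, ht, ht'⟩ := id hν
    have hgi : ∀ v, g⁻¹ (g v) = v := fun v => by rw [← LinearEquiv.mul_apply, inv_mul_cancel]; rfl
    have hgi' : ∀ v, g (g⁻¹ v) = v := fun v => by rw [← LinearEquiv.mul_apply, mul_inv_cancel]; rfl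
    have hν' : IsT Y ((g : V →ₗ[F] V) * ν * ((g⁻¹ : V ≃ₗ[F] V) : V →ₗ[F] V)) := by
      refine ⟨φ ∘ₗ ((g⁻¹ : V ≃ₗ[F] V) : V →ₗ[F] V), g e, ?_, ?_, g * t * g⁻¹,
        Y.mul_mem (Y.mul_mem hg ht) (Y.inv_mem hg), ?_⟩
      · show φ (g⁻¹ (g e)) = 0
        rw [hgi, h0]
      · intro v
        show g (ν (g⁻¹ v)) = φ (g⁻¹ v) • g e
        rw [h1, map_smul]
      · ext v
        show g (t (g⁻¹ v)) = v + g (ν (g⁻¹ v))
        have h3 : t (g⁻¹ v) = g⁻¹ v + ν (g⁻¹ v) := congrArg (fun g' : V →ₗ[F] V => g' (g⁻¹ v)) ht'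
        rw [h3, map_add, hgi']
    refine ⟨_, hν', ?_⟩
    rw [conjBy, MonoidHom.map_zpowers]
    congr 1
    apply Units.ext
    rw [H740.coe_oneAdd]
    ext v
    show g ((1 + ν) (g⁻¹ v)) = v + g (ν (g⁻¹ v))
    rw [LinearMap.add_apply, map_add, Module.End.one_apply, hgi']
  have huni : IsUnipotentOn (⨆ A ∈ W, A) := by
    apply H740.isUnipotentOn_iSup hWG
    · rintro _ ⟨a, ha, rfl⟩ _ ⟨b, hb, rfl⟩
      exact H740.isUnipotentOn_zpowers_sup (hNN a ha) (hNN b hb) (hNM a ha b hb) (hNM b hb a ha)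
    · exact hconj
  obtain ⟨n, hn⟩ := (H740.isUnipotentOn_iff _).1 huni
  set J := H740.augSpan (⨆ A ∈ W, A) with hJ
  -- the span of the centres
  by_contra hcon
  push Not at hcon
  have hall : ∀ k : ℕ, (⊤ : Submodule F V) ≤ Submodule.span F {x | ∃ f ∈ J ^ k, ∃ v, x = f v} := by
    intro k
    induction k with
    | zero =>
      intro v _
      refine Submodule.subset_span ⟨1, ?_, v, rfl⟩
      rw [pow_zero]
      exact Submodule.one_le.1 le_rfl
    | succ k ih =>
      intro e _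
      by_cases he : e = 0
      · rw [he]; exact Submodule.zero_mem _
      obtain ⟨t, ⟨htY, htu⟩, ht1⟩ := Subgroup.ne_bot_iff_exists_ne_one.1 (hcon e he) |> fun ⟨x, hx⟩ =>
        (⟨x.1, x.2, fun h => hx (Subtype.ext h)⟩ : ∃ t : V ≃ₗ[F] V, t ∈ Y ⊓ unipG (F ∙ e) ∧ t ≠ 1)
      obtain ⟨φ, h0, h1⟩ := exists_functional he htu
      obtain ⟨x, hx⟩ : ∃ x, φ x ≠ 0 := by
        by_contra hx
        push Not at hx
        apply ht1
        ext v
        rw [h1, hx, zero_smul, add_zero]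
        rfl
      have hν : IsT Y (φ.smulRight e) := by
        refine ⟨φ, e, h0, fun v => rfl, t, htY, ?_⟩
        ext v
        exact h1 v
      have hmem : H740.oneAdd (φ.smulRight e) (hNN _ hν) ∈ (⨆ A ∈ W, A) :=
        (le_iSup₂_of_le (Subgroup.zpowers (H740.oneAdd (φ.smulRight e) (hNN _ hν))) ⟨_, hν, rfl⟩ le_rfl :
          Subgroup.zpowers (H740.oneAdd (φ.smulRight e) (hNN _ hν)) ≤ _) (Subgroup.mem_zpowers _)
      have h3 : e = (φ.smulRight e) ((φ x)⁻¹ • x) := by
        rw [LinearMap.smulRight_apply, map_smul, smul_eq_mul, inv_mul_cancel₀ hx, one_smul]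
      rw [h3]
      have h4 : (φ x)⁻¹ • x ∈ Submodule.span F {x | ∃ f ∈ J ^ k, ∃ v, x = f v} := ih (Submodule.mem_top)
      have h5 := Submodule.mem_map_of_mem (f := φ.smulRight e) h4
      rw [Submodule.map_span] at h5
      refine Submodule.span_mono ?_ h5
      rintro _ ⟨_, ⟨f, hf, v, rfl⟩, rfl⟩
      refine ⟨φ.smulRight e * f, ?_, v, rfl⟩
      rw [pow_succ']
      refine Submodule.mul_mem_mul ?_ hf
      have h6 := H740.sub_one_mem_augSpan hmem
      rwa [H740.coe_oneAdd, add_sub_cancel_left] at h6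
  obtain ⟨x, hx⟩ := exists_ne (0 : V)
  apply hx
  have h1 := hall n (Submodule.mem_top (x := x))
  have h3 : {x | ∃ f ∈ J ^ n, ∃ v, x = f v} ⊆ {(0 : V)} := by
    rintro _ ⟨f, hf, v, rfl⟩
    rw [hn] at hf
    rw [(Submodule.mem_bot F).1 hf]
    rfl
  have h4 := Submodule.span_mono (R := F) h3 h1
  rwa [Submodule.span_singleton_eq_bot.2 rfl, Submodule.mem_bot] at h4

end LR

/-! ### (PHI) -/

section Ext

variable {F : Type u} [Field F] {V : Type v} [AddCommGroup V] [Module F V] {D U : Submodule F V}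

/-- extension by the identity on `D` -/
noncomputable def ext (h : IsCompl D U) : (U ≃ₗ[F] U) →* (V ≃ₗ[F] V) where
  toFun y := (Submodule.prodEquivOfIsCompl D U h).symm.trans
    (((LinearEquiv.refl F D).prodCongr y).trans (Submodule.prodEquivOfIsCompl D U h))
  map_one' := by
    ext v
    obtain ⟨x, rfl⟩ := (Submodule.prodEquivOfIsCompl D U h).surjective v
    simp only [LinearEquiv.trans_apply, LinearEquiv.symm_apply_apply]
    rfl
  map_mul' a b := by
    ext v
    obtain ⟨x, rfl⟩ := (Submodule.prodEquivOfIsCompl D U h).surjective v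
    simp only [LinearEquiv.mul_apply, LinearEquiv.trans_apply, LinearEquiv.symm_apply_apply]
    rfl

theorem ext_add (h : IsCompl D U) (y : U ≃ₗ[F] U) (a : D) (b : U) : ext h y ((a : V) + b) = a + y b := by
  have h1 : (Submodule.prodEquivOfIsCompl D U h).symm ((a : V) + b) = (a, b) := by
    rw [LinearEquiv.symm_apply_eq]
    rfl
  show (Submodule.prodEquivOfIsCompl D U h) (((LinearEquiv.refl F D).prodCongr y)
    ((Submodule.prodEquivOfIsCompl D U h).symm ((a : V) + b))) = _
  rw [h1]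
  rfl

theorem exists_add (h : IsCompl D U) (v : V) : ∃ (a : D) (b : U), v = (a : V) + b := by
  obtain ⟨⟨a, b⟩, rfl⟩ := (Submodule.prodEquivOfIsCompl D U h).surjective v
  exact ⟨a, b, rfl⟩

theorem ext_fix (h : IsCompl D U) (y : U ≃ₗ[F] U) : ext h y ∈ fixG D := by
  intro w hw
  have h1 := ext_add h y ⟨w, hw⟩ 0
  rw [map_zero, Submodule.coe_zero, add_zero] at h1
  exact h1

theorem ext_cofix (h : IsCompl D U) (y : U ≃ₗ[F] U) : ext h y ∈ cofixG U := by
  intro v
  obtain ⟨a, b, rfl⟩ := exists_add h v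
  rw [ext_add, add_sub_add_left_eq_sub]
  exact U.sub_mem (y b).2 b.2

theorem ext_coe (h : IsCompl D U) (y : U ≃ₗ[F] U) (b : U) : ext h y b = y b := by
  have h1 := ext_add h y 0 b
  rw [Submodule.coe_zero, zero_add, zero_add] at h1
  exact h1

theorem ext_mem [FiniteDimensional F V] (h : IsCompl D U) {y : U ≃ₗ[F] U} (hy : y ∈ slV F U) :
    ext h y ∈ slV F V := by
  rw [mem_slV] at hy ⊢
  rw [det_cofix U ⟨ext h y, ext_cofix h y⟩]
  have h1 : resH U ⟨ext h y, ext_cofix h y⟩ = y := by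
    ext b
    rw [resH_coe]
    exact ext_coe h y b
  rw [h1, hy]

theorem ext_fund (h2 : (2 : F) ≠ 0) (h : IsCompl D U) {y : U ≃ₗ[F] U} (hy : fund y) : fund (ext h y) := by
  rw [fund_iff h2] at hy ⊢
  refine ⟨by rw [← map_mul, hy.1, map_one], ?_⟩
  have h0 : negS (ext h y) = (negS y).map U.subtype := by
    ext v
    constructor
    · intro hv
      obtain ⟨a, b, rfl⟩ := exists_add h v
      have h1 : (a : V) + y b = -((a : V) + b) := by rw [← ext_add h]; exact hv
      have h3 : (a : V) + a = -((b : V) + y b) := by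
        have h4 : (a : V) + a = ((a : V) + y b) + a - y b := by abel
        rw [h4, h1]; abel
      have h4 : (a : V) + a ∈ D ⊓ U :=
        ⟨D.add_mem a.2 a.2, by rw [h3]; exact U.neg_mem (U.add_mem b.2 (y b).2)⟩
      rw [h.inf_eq_bot, Submodule.mem_bot, ← two_smul F, smul_eq_zero] at h4
      have h5 : (a : V) = 0 := h4.resolve_left h2
      rw [h5, zero_add, zero_add] at h1
      refine ⟨b, Subtype.ext h1, ?_⟩
      rw [h5, zero_add]
      rfl
    · rintro ⟨b, hb, rfl⟩
      show ext h y b = -(b : V)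
      rw [ext_coe]
      exact congrArg Subtype.val (show y b = -b from hb)
  rw [h0, Submodule.finrank_map_subtype_eq U (negS y), hy.2]

/-- `SL(U) × Γ → SL(V) × Γ` -/
noncomputable def lam [FiniteDimensional F V] (h : IsCompl D U) (Γ : Type w) [Group Γ] :
    slV F U × Γ →* slV F V × Γ :=
  MonoidHom.prodMap (((ext h).comp (slV F U).subtype).codRestrict (slV F V) (fun y => ext_mem h y.2))
    (MonoidHom.id Γ)

end Ext

theorem unip_le_slV {F : Type u} [Field F] {V : Type v} [AddCommGroup V] [Module F V] [FiniteDimensional F V]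
    (W : Submodule F V) : unipG W ≤ slV F V := by
  intro g hg
  rw [mem_slV, det_cofix W ⟨g, hg.2⟩]
  have h1 : resH W ⟨g, hg.2⟩ = 1 := by
    ext x
    rw [resH_coe]
    exact hg.1 x x.2
  rw [h1]
  exact LinearMap.det_id

theorem card_unip {F : Type u} [Field F] [Finite F] {V : Type v} [AddCommGroup V] [Module F V] [Finite V]
    {e : V} (he : e ≠ 0) {n : ℕ} (hn : finrank F V = n + 1) :
    Nat.card F ^ n ≤ Nat.card (unipG (F ∙ e)) := by
  have := finite_equiv F V
  let K := LinearMap.ker (LinearMap.applyₗ (R := F) (M₂ := F) e)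
  have h1 : finrank F (LinearMap.range (LinearMap.applyₗ (R := F) (M₂ := F) e)) ≤ 1 := by
    refine (Submodule.finrank_le _).trans ?_
    rw [finrank_self]
  have h3 := LinearMap.finrank_range_add_finrank_ker (LinearMap.applyₗ (R := F) (M₂ := F) e)
  have h4 : finrank F (V →ₗ[F] F) = n + 1 := by rw [finrank_linearMap, finrank_self, mul_one, hn]
  have h5 : n ≤ finrank F K := by
    have h6 : finrank F (LinearMap.range (LinearMap.applyₗ (R := F) (M₂ := F) e)) + finrank F K = n + 1 := by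
      rw [← h4]; exact h3
    omega
  have hfin : Finite (V →ₗ[F] F) := Finite.of_injective (fun e : V →ₗ[F] F => (e : V → F))
    (fun _ _ h => LinearMap.ext fun v => congrFun h v)
  have h6 : Nat.card F ^ n ≤ Nat.card K := by
    rw [Module.natCard_eq_pow_finrank (K := F) (V := K)]
    exact Nat.pow_le_pow_right Nat.card_pos h5
  refine h6.trans ?_
  have hK : ∀ φ : K, φ.1 e = 0 := fun φ => φ.2
  choose T hT hT' using fun φ : K => tv_mem e φ.1 (hK φ)
  refine Nat.card_le_card_of_injective (fun φ => (⟨T φ, hT φ⟩ : unipG (F ∙ e))) ?_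
  intro a b hab
  have h7 : T a = T b := congrArg Subtype.val hab
  apply Subtype.ext
  ext v
  have h8 := hT' a v
  rw [h7, hT' b v] at h8
  have h9 := add_left_cancel h8
  rw [← sub_eq_zero, ← sub_smul, smul_eq_zero] at h9
  exact (sub_eq_zero.1 (h9.resolve_right he)).symm

/-- **(PHI) for `SL(V)`, relative form** (`q` odd). -/
theorem phi_sl {F : Type u} [Field F] [Finite F] (h2 : (2 : F) ≠ 0)
    (hFT : ∀ (D : Type v) [Group D] [Finite D], Odd (Nat.card D) → Group.IsSolvable D) :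
    ∀ (d : ℕ) (V : Type v) [AddCommGroup V] [Module F V] [Module.Finite F V], finrank F V = d →
      ∀ (Γ : Type w) [Group Γ] [Finite Γ] (Z : Set Γ) (c : ℕ), (∀ z ∈ Z, z * z = 1) →
        (∀ g, ∀ z ∈ Z, g * z * g⁻¹ ∈ Z) → (∀ Y : Subgroup Γ, (∀ z ∈ Z, z ∉ Y) → c ≤ Y.index) →
        ∀ X : Subgroup (slV F V × Γ), (∀ z : slV F V, fund z.1 → (z, 1) ∉ X) →
          (∀ z ∈ Z, ((1 : slV F V), z) ∉ X) → Nat.card F ^ (d * (d - 1) / 2) * c ≤ X.index := by
  intro d
  induction d with
  | zero =>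
    intro V _ _ _ hd Γ _ _ Z c hZ hZc hc X hX1 hX2
    have : Finite V := Module.finite_of_finite F
    have := finite_equiv F V
    have h1 : c ≤ (X.comap (MonoidHom.inr (slV F V) Γ)).index := hc _ fun z hz h => hX2 z hz h
    have h3 : (X.comap (MonoidHom.inr (slV F V) Γ)).index ≤ X.index := by
      rw [Subgroup.index_comap]
      rw [← Subgroup.relIndex_top_right X]
      exact Subgroup.relIndex_le_of_le_right le_top Subgroup.index_ne_zero_of_finite
    simpa using h1.trans h3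
  | succ n ih =>
    intro V _ _ _ hd Γ _ _ Z c hZ hZc hc X hX1 hX2
    have : Finite V := Module.finite_of_finite F
    have := finite_equiv F V
    have hnt : Nontrivial V := by
      rw [← Module.finrank_pos_iff (R := F)]
      omega
    -- the choice of `e`
    let Y : Subgroup (V ≃ₗ[F] V) := (X.comap (MonoidHom.inl (slV F V) Γ)).map (slV F V).subtype
    have hYsl : Y ≤ slV F V := by
      rintro _ ⟨g, -, rfl⟩
      exact g.2
    have hYno : ∀ z ∈ Y, ¬ fund z := by
      rintro _ ⟨g, hg, rfl⟩ hf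
      exact hX1 g hf hg
    obtain ⟨e, he, hbot⟩ := exists_center h2 hFT hYsl hYno
    obtain ⟨U, hU⟩ := (F ∙ e).exists_isCompl
    have hUd : finrank F U = n := by
      have h1 := Submodule.finrank_add_eq_of_isCompl hU
      rw [finrank_span_singleton he] at h1
      omega
    -- the group `Q`
    let Q : Subgroup (slV F V × Γ) := ((unipG (F ∙ e)).subgroupOf (slV F V)).prod ⊥
    have hQ1 : ∀ g : slV F V, ∀ γ : Γ, (g, γ) ∈ Q ↔ g.1 ∈ unipG (F ∙ e) ∧ γ = 1 := by
      intro g γ
      rw [Subgroup.mem_prod, Subgroup.mem_bot, Subgroup.mem_subgroupOf]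
    have hQodd : Odd (Nat.card Q) := by
      by_contra hev
      rw [Nat.not_odd_iff_even, even_iff_two_dvd] at hev
      obtain ⟨⟨⟨g, γ⟩, hgQ⟩, hg⟩ := exists_prime_orderOf_dvd_card' 2 hev
      rw [← Subgroup.orderOf_coe] at hg
      obtain ⟨hgu, rfl⟩ := (hQ1 g γ).1 hgQ
      have h1 := pow_orderOf_eq_one ((g, (1 : Γ)) : slV F V × Γ)
      rw [show orderOf ((g, (1 : Γ)) : slV F V × Γ) = 2 from hg] at h1
      have h3 : g.1 ^ (2 ^ 1) = 1 := congrArg (fun p : slV F V × Γ => p.1.1) h1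
      have h4 := unip_eq_one h2 hgu h3
      have h5 : ((g, (1 : Γ)) : slV F V × Γ) = 1 := Prod.ext (Subtype.ext h4) rfl
      have h6 : orderOf ((g, (1 : Γ)) : slV F V × Γ) = 2 := hg
      rw [h5, orderOf_one] at h6
      omega
    have hQcard : Nat.card F ^ n ≤ Nat.card Q := by
      refine (card_unip he hd).trans ?_
      refine Nat.card_le_card_of_injective (fun g : unipG (F ∙ e) =>
        (⟨(⟨g.1, unip_le_slV _ g.2⟩, 1), (hQ1 _ _).2 ⟨g.2, rfl⟩⟩ : Q)) ?_
      intro a b hab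
      have h1 := congrArg (fun p : Q => p.1.1.1) hab
      exact Subtype.ext h1
    have hXQ : X ⊓ Q = ⊥ := by
      rw [Subgroup.eq_bot_iff_forall]
      rintro ⟨g, γ⟩ ⟨hg, hgQ⟩
      obtain ⟨hgu, rfl⟩ := (hQ1 g γ).1 hgQ
      have h1 : g.1 ∈ Y ⊓ unipG (F ∙ e) := ⟨⟨g, hg, rfl⟩, hgu⟩
      rw [hbot, Subgroup.mem_bot] at h1
      exact Prod.ext (Subtype.ext h1) rfl
    have := finite_equiv F U
    let Zs : Set (slV F V × Γ) := {p | (fund p.1.1 ∧ p.2 = 1) ∨ (p.1 = 1 ∧ p.2 ∈ Z)}
    have key := H847.IF.abs_index (lam hU Γ) Q X hQodd ?_ Zs ?_ ?_ ?_ (Nat.card F ^ (n * (n - 1) / 2) * c) ?_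
    · rw [hXQ, Subgroup.card_bot, one_mul] at key
      refine le_trans ?_ key
      rw [show n + 1 - 1 = n from rfl, show (n + 1) * n / 2 = n * (n - 1) / 2 + n from Nat.triangle_succ n,
        add_comm, pow_add, mul_assoc]
      exact Nat.mul_le_mul_right _ hQcard
    · rintro ⟨l, γ⟩ ⟨g, γ'⟩ hg
      obtain ⟨hgu, rfl⟩ := (hQ1 g γ').1 hg
      refine (hQ1 _ _).2 ⟨?_, ?_⟩
      · show ext hU l.1 * g.1 * (ext hU l.1)⁻¹ ∈ unipG (F ∙ e)
        constructor
        · intro w hw
          have h1 : (ext hU l.1)⁻¹ w = w := (fixG (F ∙ e)).inv_mem (ext_fix hU l.1) w hw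
          rw [LinearEquiv.mul_apply, LinearEquiv.mul_apply, h1, hgu.1 w hw]
          exact ext_fix hU l.1 w hw
        · intro v
          have h1 : v = ext hU l.1 ((ext hU l.1)⁻¹ v) := by
            rw [← LinearEquiv.mul_apply, mul_inv_cancel]
            rfl
          have h3 : (ext hU l.1 * g.1 * (ext hU l.1)⁻¹) v - v =
              ext hU l.1 (g.1 ((ext hU l.1)⁻¹ v) - (ext hU l.1)⁻¹ v) := by
            rw [map_sub, ← h1]
            rfl
          rw [h3, ext_fix hU l.1 _ (hgu.2 _)]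
          exact hgu.2 _
      · show γ * 1 * γ⁻¹ = 1
        rw [mul_one, mul_inv_cancel]
    · rintro ⟨g, γ⟩ (⟨h1, rfl⟩ | ⟨rfl, h1⟩)
      · exact Prod.ext (Subtype.ext h1.1) (mul_one _)
      · exact Prod.ext (mul_one _) (hZ _ h1)
    · rintro ⟨a, α⟩ ⟨g, γ⟩ (⟨h1, h3⟩ | ⟨h1, h3⟩)
      · left
        have h3' : γ = 1 := h3
        subst h3'
        refine ⟨?_, ?_⟩
        · rw [fund_iff h2] at h1 ⊢
          have hsq : (a.1 * g.1 * a.1⁻¹) * (a.1 * g.1 * a.1⁻¹) = 1 := by
            have h5 : (a.1 * g.1 * a.1⁻¹) * (a.1 * g.1 * a.1⁻¹) = a.1 * (g.1 * g.1) * a.1⁻¹ := by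
              simp only [mul_assoc, inv_mul_cancel_left]
            rw [h5, h1.1, mul_one, mul_inv_cancel]
          refine ⟨hsq, ?_⟩
          rw [← h1.2]
          have h6 : negS (a.1 * g.1 * a.1⁻¹) = (negS g.1).map (a.1 : V →ₗ[F] V) := by
            ext v
            constructor
            · intro hv
              have h7 : a.1 (g.1 (a.1⁻¹ v)) = -v := hv
              refine ⟨a.1⁻¹ v, ?_, ?_⟩
              · show g.1 (a.1⁻¹ v) = -(a.1⁻¹ v)
                apply a.1.injective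
                rw [h7, map_neg, ← LinearEquiv.mul_apply, mul_inv_cancel]
                rfl
              · show (a.1 * a.1⁻¹) v = v
                rw [mul_inv_cancel]
                rfl
            · rintro ⟨x, hx, rfl⟩
              have hx' : g.1 x = -x := hx
              show a.1 (g.1 (a.1⁻¹ (a.1 x))) = -(a.1 x)
              rw [← LinearEquiv.mul_apply a.1⁻¹, inv_mul_cancel, LinearEquiv.coe_one, id, hx', map_neg]
          show finrank F (negS (a.1 * g.1 * a.1⁻¹)) = _
          rw [h6]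
          exact LinearEquiv.finrank_map_eq a.1 (negS g.1)
        · show α * 1 * α⁻¹ = 1
          rw [mul_one, mul_inv_cancel]
      · right
        have h1' : g = 1 := h1
        subst h1'
        refine ⟨?_, hZc α γ h3⟩
        show a * 1 * a⁻¹ = 1
        rw [mul_one, mul_inv_cancel]
    · rintro ⟨g, γ⟩ (⟨h1, h3⟩ | ⟨h1, h3⟩) hX
      · have h3' : γ = 1 := h3
        subst h3'
        exact hX1 g h1 hX
      · have h1' : g = 1 := h1
        subst h1'
        exact hX2 γ h3 hX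
    · intro Y' hY'
      refine ih U hUd Γ Z c hZ hZc hc Y' ?_ ?_
      · intro z hz hzY
        exact hY' _ hzY (Or.inl ⟨ext_fund h2 hU hz, rfl⟩)
      · intro z hz hzY
        refine hY' _ hzY (Or.inr ⟨?_, hz⟩)
        exact Subtype.ext (map_one (ext hU))

end Cfsg.Agent.H353.Phi
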