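import Mathlib
import Cfsg.Agent.H353.IF.PhiSL

/-!
# S5719: corollaries of (PHI) for `SL` (helper353)

* `phi_sl_abs`, `phi_sl_prod` : `X ≤ SL(V)`, `X ≤ SL(V) × SL(V')`.
* `slEquiv : SpecialLinearGroup n F ≃* slV F (n → F)`, `mfund`, `mfund_iff`;
* `phi_mat_abs`, `phi_mat_prod`, `phi_mat_rel` : the same for `Matrix.SpecialLinearGroup`.
* `relIndex_eq` : transport along an embedding (`X ≤ G`, `f : K →* G`): `(X.comap f).index = X.relIndex f.range`.
-/

set_option autoImplicit false
set_option linter.unusedSectionVars false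

namespace Cfsg.Agent.H353.Phi

open Module
open Cfsg.Agent.H847.Bs (slV)

universe u v w

theorem fund_conj {F : Type*} [Field F] (h2 : (2 : F) ≠ 0) {V : Type*} [AddCommGroup V] [Module F V]
    (a : V ≃ₗ[F] V) {z : V ≃ₗ[F] V} (hz : fund z) : fund (a * z * a⁻¹) := by
  rw [fund_iff h2] at hz ⊢
  have hsq : (a * z * a⁻¹) * (a * z * a⁻¹) = 1 := by
    have h5 : (a * z * a⁻¹) * (a * z * a⁻¹) = a * (z * z) * a⁻¹ := by
      simp only [mul_assoc, inv_mul_cancel_left]
    rw [h5, hz.1, mul_one, mul_inv_cancel]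
  refine ⟨hsq, ?_⟩
  rw [← hz.2]
  have h6 : negS (a * z * a⁻¹) = (negS z).map (a : V →ₗ[F] V) := by
    ext v
    constructor
    · intro hv
      have h7 : a (z (a⁻¹ v)) = -v := hv
      refine ⟨a⁻¹ v, ?_, ?_⟩
      · show z (a⁻¹ v) = -(a⁻¹ v)
        apply a.injective
        rw [h7, map_neg, ← LinearEquiv.mul_apply, mul_inv_cancel]
        rfl
      · show (a * a⁻¹) v = v
        rw [mul_inv_cancel]
        rfl
    · rintro ⟨x, hx, rfl⟩
      have hx' : z x = -x := hx
      show a (z (a⁻¹ (a x))) = -(a x)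
      rw [← LinearEquiv.mul_apply a⁻¹, inv_mul_cancel, LinearEquiv.coe_one, id, hx', map_neg]
  rw [h6]
  exact LinearEquiv.finrank_map_eq a (negS z)

section Cor

variable {F : Type u} [Field F] [Finite F] (h2 : (2 : F) ≠ 0)
  (hFT : ∀ (D : Type v) [Group D] [Finite D], Odd (Nat.card D) → Group.IsSolvable D)

include h2 hFT

/-- **(PHI) for `SL(V)`, absolute form** -/
theorem phi_sl_abs {V : Type v} [AddCommGroup V] [Module F V] [Module.Finite F V] {X : Subgroup (slV F V)}
    (hX : ∀ z : slV F V, fund z.1 → z ∉ X) :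
    Nat.card F ^ (finrank F V * (finrank F V - 1) / 2) ≤ X.index := by
  have h1 := phi_sl h2 hFT (finrank F V) V rfl Unit ∅ 1 (fun z hz => (Set.notMem_empty z hz).elim)
    (fun g z hz => (Set.notMem_empty z hz).elim) (fun Y _ => Nat.one_le_iff_ne_zero.2 Subgroup.index_ne_zero_of_finite)
    (X.prod ⊤) (fun z hz h => hX z hz (Subgroup.mem_prod.1 h).1) (fun z hz => (Set.notMem_empty z hz).elim)
  rwa [mul_one, Subgroup.index_prod, Subgroup.index_top, mul_one] at h1

/-- **(PHI) for `SL(V) × SL(V')`** -/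
theorem phi_sl_prod {V V' : Type v} [AddCommGroup V] [Module F V] [Module.Finite F V] [AddCommGroup V']
    [Module F V'] [Module.Finite F V'] {X : Subgroup (slV F V × slV F V')}
    (hX : ∀ z : slV F V, fund z.1 → (z, 1) ∉ X) (hX' : ∀ z : slV F V', fund z.1 → (1, z) ∉ X) :
    Nat.card F ^ (finrank F V * (finrank F V - 1) / 2 + finrank F V' * (finrank F V' - 1) / 2) ≤ X.index := by
  have : Finite V' := Module.finite_of_finite F
  have := finite_equiv F V'
  have h1 := phi_sl h2 hFT (finrank F V) V rfl (slV F V') {z | fund z.1}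
    (Nat.card F ^ (finrank F V' * (finrank F V' - 1) / 2)) (fun z hz => Subtype.ext hz.1)
    (fun g z hz => fund_conj h2 g.1 hz) (fun Y hY => phi_sl_abs h2 hFT fun z hz => hY z hz) X hX
    (fun z hz => hX' z hz)
  rwa [← pow_add] at h1

end Cor

/-! ### matrices -/

section Mat

variable (F : Type u) [Field F] (ι : Type v) [Fintype ι] [DecidableEq ι]

/-- `SL_n(F) = SL(Fⁿ)` -/
noncomputable def slEquiv : Matrix.SpecialLinearGroup ι F ≃* slV F (ι → F) :=
  MulEquiv.ofBijective ((Matrix.SpecialLinearGroup.toLin' (n := ι) (R := F)).codRestrict (slV F (ι → F))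
    (fun A => by
      show LinearMap.det (Matrix.toLin' (A : Matrix ι ι F)) = 1
      rw [LinearMap.det_toLin', A.2])) (by
    constructor
    · intro A B h
      have h1 := congrArg Subtype.val h
      exact Matrix.SpecialLinearGroup.toLin'_injective h1
    · rintro ⟨g, hg⟩
      refine ⟨⟨LinearMap.toMatrix' (g : (ι → F) →ₗ[F] (ι → F)), ?_⟩, ?_⟩
      · rw [LinearMap.det_toMatrix']
        exact hg
      · apply Subtype.ext
        apply LinearEquiv.toLinearMap_injective
        exact Matrix.toLin'_toMatrix' _)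

theorem slEquiv_apply (A : Matrix.SpecialLinearGroup ι F) (v : ι → F) :
    ((slEquiv F ι A).1 : (ι → F) ≃ₗ[F] (ι → F)) v = (A : Matrix ι ι F).mulVec v := rfl

variable {F ι}

/-- fundamental involutions of `SL_n(F)` : `z² = 1`, `rank (z - 1) = 2` -/
def mfund (z : Matrix.SpecialLinearGroup ι F) : Prop :=
  z * z = 1 ∧ ((z : Matrix ι ι F) - 1).rank = 2

theorem mfund_iff (z : Matrix.SpecialLinearGroup ι F) : mfund z ↔ fund (slEquiv F ι z).1 := by
  have h1 : z * z = 1 ↔ (slEquiv F ι z).1 * (slEquiv F ι z).1 = 1 := by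
    constructor
    · intro h
      have h3 : slEquiv F ι z * slEquiv F ι z = 1 := by rw [← map_mul, h, map_one]
      exact congrArg Subtype.val h3
    · intro h
      apply (slEquiv F ι).injective
      rw [map_mul, map_one]
      exact Subtype.ext h
  have h3 : LinearMap.range (((slEquiv F ι z).1 : (ι → F) →ₗ[F] (ι → F)) - 1) =
      LinearMap.range (((z : Matrix ι ι F) - 1).mulVecLin) := by
    congr 1
    ext v : 1
    rw [← Matrix.toLin'_apply', map_sub, Matrix.toLin'_one]
    rfl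
  unfold mfund fund
  rw [h1, h3]
  rfl

section Cor

variable [Finite F] (h2 : (2 : F) ≠ 0)
  (hFT : ∀ (D : Type (max u v)) [Group D] [Finite D], Odd (Nat.card D) → Group.IsSolvable D)

include h2 hFT

/-- **(PHI) for `SL_n(F)`, relative form** -/
theorem phi_mat_rel (Γ : Type w) [Group Γ] [Finite Γ] (Z : Set Γ) (c : ℕ) (hZ : ∀ z ∈ Z, z * z = 1)
    (hZc : ∀ g, ∀ z ∈ Z, g * z * g⁻¹ ∈ Z) (hc : ∀ Y : Subgroup Γ, (∀ z ∈ Z, z ∉ Y) → c ≤ Y.index)
    {X : Subgroup (Matrix.SpecialLinearGroup ι F × Γ)}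
    (hX : ∀ z : Matrix.SpecialLinearGroup ι F, mfund z → (z, 1) ∉ X)
    (hX' : ∀ z ∈ Z, ((1 : Matrix.SpecialLinearGroup ι F), z) ∉ X) :
    Nat.card F ^ (Fintype.card ι * (Fintype.card ι - 1) / 2) * c ≤ X.index := by
  let e : Matrix.SpecialLinearGroup ι F × Γ ≃* slV F (ι → F) × Γ := (slEquiv F ι).prodCongr (MulEquiv.refl Γ)
  have h1 := phi_sl h2 hFT (Fintype.card ι) (ι → F) (finrank_fintype_fun_eq_card F) Γ Z c hZ hZc hc
    (X.map (e : _ →* _)) ?_ ?_
  · rwa [Subgroup.index_map_equiv] at h1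
  · rintro z hz ⟨⟨y, γ⟩, hy, he⟩
    have h3 : slEquiv F ι y = z := congrArg Prod.fst he
    have h4 : γ = 1 := congrArg Prod.snd he
    subst h4
    exact hX y ((mfund_iff y).2 (by rw [h3]; exact hz)) hy
  · rintro z hz ⟨⟨y, γ⟩, hy, he⟩
    have h3 : slEquiv F ι y = 1 := congrArg Prod.fst he
    have h4 : γ = z := congrArg Prod.snd he
    subst h4
    have h5 : y = 1 := (slEquiv F ι).injective (by rw [h3, map_one])
    subst h5
    exact hX' γ hz hy

/-- **(PHI) for `SL_n(F)`, absolute form** -/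
theorem phi_mat_abs {X : Subgroup (Matrix.SpecialLinearGroup ι F)}
    (hX : ∀ z : Matrix.SpecialLinearGroup ι F, mfund z → z ∉ X) :
    Nat.card F ^ (Fintype.card ι * (Fintype.card ι - 1) / 2) ≤ X.index := by
  have h1 := phi_mat_rel h2 hFT Unit ∅ 1 (fun z hz => (Set.notMem_empty z hz).elim)
    (fun g z hz => (Set.notMem_empty z hz).elim) (fun Y _ => Nat.one_le_iff_ne_zero.2 Subgroup.index_ne_zero_of_finite)
    (X := X.prod ⊤) (fun z hz h => hX z hz (Subgroup.mem_prod.1 h).1) (fun z hz => (Set.notMem_empty z hz).elim)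
  rwa [mul_one, Subgroup.index_prod, Subgroup.index_top, mul_one] at h1

theorem mfund_conj (g : Matrix.SpecialLinearGroup ι F) {z : Matrix.SpecialLinearGroup ι F} (hz : mfund z) :
    mfund (g * z * g⁻¹) := by
  rw [mfund_iff] at hz ⊢
  rw [map_mul, map_mul, map_inv]
  exact fund_conj h2 _ hz

/-- **(PHI) for `SL_m(F) × SL_n(F)`** -/
theorem phi_mat_prod {κ : Type v} [Fintype κ] [DecidableEq κ]
    {X : Subgroup (Matrix.SpecialLinearGroup ι F × Matrix.SpecialLinearGroup κ F)}
    (hX : ∀ z : Matrix.SpecialLinearGroup ι F, mfund z → (z, 1) ∉ X)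
    (hX' : ∀ z : Matrix.SpecialLinearGroup κ F, mfund z → (1, z) ∉ X) :
    Nat.card F ^ (Fintype.card ι * (Fintype.card ι - 1) / 2 + Fintype.card κ * (Fintype.card κ - 1) / 2) ≤
      X.index := by
  have h1 := phi_mat_rel h2 hFT (Matrix.SpecialLinearGroup κ F) {z | mfund z}
    (Nat.card F ^ (Fintype.card κ * (Fintype.card κ - 1) / 2)) (fun z hz => hz.1)
    (fun g z hz => mfund_conj h2 hFT g hz) (fun Y hY => phi_mat_abs h2 hFT fun z hz => hY z hz) hX
    (fun z hz => hX' z hz)
  rwa [← pow_add] at h1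

end Cor

end Mat

/-- index of a preimage -/
theorem relIndex_eq {K G : Type*} [Group K] [Group G] (f : K →* G) (X : Subgroup G) :
    (X.comap f).index = X.relIndex f.range := Subgroup.index_comap X f

end Cfsg.Agent.H353.Phi
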